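import Cfsg.Agent.Lib.BG.Quo
import Cfsg.Agent.Lib.BG.Hall
import Cfsg.Agent.Lib.NG.Acd
import Cfsg.Agent.S4039

/-!
# Chains of subgroups

`Ch n X Y`: there is a chain `X ≤ M₀ < M₁ < ⋯ < Mₙ = Y`.
-/

set_option autoImplicit false

namespace Cfsg.Lib.Len

open Subgroup Cfsg.Lib.BG
open scoped Cfsg.Lib.Transfer ArithmeticFunction.Omega

variable {G : Type*} [Group G] {G' : Type*} [Group G']

/-- There is a chain `X ≤ M₀ < M₁ < ⋯ < Mₙ = Y`. -/
def Ch : ℕ → Subgroup G → Subgroup G → Prop
  | 0, X, Y => X ≤ Y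
  | n + 1, X, Y => ∃ M, M < Y ∧ Ch n X M

namespace Ch

variable {m n : ℕ} {A B M N X X' Y Y' Z : Subgroup G}

theorem zero (h : X ≤ Y) : Ch 0 X Y := h

theorem step (h : Ch n X M) (hM : M < Y) : Ch (n + 1) X Y := ⟨M, hM, h⟩

theorem one (h : X < Y) : Ch 1 X Y := (zero le_rfl).step h

theorem le (h : Ch n X Y) : X ≤ Y := by
  induction n generalizing Y with
  | zero => exact h
  | succ n ih => obtain ⟨M, h1, h2⟩ := h; exact (ih h2).trans h1.le

theorem right (h : Ch n X Y) (hY : Y ≤ Y') : Ch n X Y' := by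
  cases n with
  | zero => exact le_trans h hY
  | succ n => obtain ⟨M, h1, h2⟩ := h; exact ⟨M, h1.trans_le hY, h2⟩

theorem left (h : Ch n X Y) (hX : X' ≤ X) : Ch n X' Y := by
  induction n generalizing Y with
  | zero => exact le_trans hX h
  | succ n ih => obtain ⟨M, h1, h2⟩ := h; exact ⟨M, h1, ih h2⟩

theorem trans (h : Ch m X Y) (h' : Ch n Y Z) : Ch (m + n) X Z := by
  induction n generalizing Z with
  | zero => exact h.right h'
  | succ n ih => obtain ⟨M, h1, h2⟩ := h'; exact ⟨M, h1, ih h2⟩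

theorem pred (h : Ch (n + 1) X Y) : Ch n X Y := by
  obtain ⟨M, h1, h2⟩ := h; exact h2.right h1.le

theorem of_le (h : Ch n X Y) (hm : m ≤ n) : Ch m X Y := by
  induction hm with
  | refl => exact h
  | step _ ih => exact ih h.pred

theorem mono {f : Subgroup G → Subgroup G'} (hf : Monotone f)
    (hs : ∀ U V, X ≤ U → U < V → V ≤ Y → f U ≠ f V) (h : Ch n X Y) : Ch n (f X) (f Y) := by
  induction n generalizing Y with
  | zero => exact hf h
  | succ n ih =>
    obtain ⟨M, h1, h2⟩ := h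
    exact ⟨f M, (hf h1.le).lt_of_ne (hs M Y h2.le h1 le_rfl),
      ih (fun U V a b c => hs U V a b (c.trans h1.le)) h2⟩

theorem map (h : Ch n X Y) {f : G →* G'} (hf : Function.Injective f) :
    Ch n (X.map f) (Y.map f) :=
  h.mono (f := Subgroup.map f) (fun _ _ => map_mono) fun _ _ _ e _ e' =>
    e.ne (map_injective hf e')

theorem comap {X Y : Subgroup G'} (h : Ch n X Y) {f : G →* G'} (hf : Function.Surjective f) :
    Ch n (X.comap f) (Y.comap f) :=
  h.mono (f := Subgroup.comap f) (fun _ _ => comap_mono) fun _ _ _ e _ e' =>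
    e.ne (comap_injective hf e')

theorem equiv (h : Ch n (⊥ : Subgroup G) ⊤) (e : G ≃* G') : Ch n (⊥ : Subgroup G') ⊤ :=
  ((h.map (f := e.toMonoidHom) e.injective).left bot_le).right le_top

theorem subtype (h : Ch n (⊥ : Subgroup X) ⊤) : Ch n ⊥ X :=
  ((h.map X.subtype_injective).left bot_le).right (map_subtype_le _)

theorem subOf (h : Ch n X Y) (hY : Y ≤ Z) : Ch n (X.subgroupOf Z) (Y.subgroupOf Z) :=
  h.mono (f := fun U => U.subgroupOf Z) (fun _ _ => comap_mono) fun U V _ e c e' => e.ne <| by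
    rw [← subOf_map (e.le.trans (c.trans hY)), ← subOf_map (c.trans hY)]
    exact congrArg _ e'

theorem top (h : Ch n ⊥ X) : Ch n (⊥ : Subgroup X) ⊤ :=
  ((h.subOf le_rfl).left bot_le).right le_top

theorem sup (hB : B ≤ 𝐍(A)) (h : Ch n (A ⊓ B) B) : Ch n A (A ⊔ B) := by
  have := h.mono (f := fun U => A ⊔ U) (fun _ _ e => sup_le_sup_left e _) fun U V a e c e' =>
    e.ne <| by
      have h1 := modular_right (N := A) (e.le.trans c) ((e.le.trans c).trans hB)
      have h2 := modular_right (N := A) c (c.trans hB)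
      rw [sup_eq_right.2 a] at h1
      rw [sup_eq_right.2 (a.trans e.le)] at h2
      rw [← h1, ← h2]; exact congrArg (· ⊓ B) e'
  exact this.left le_sup_left

theorem copre {Z W : Subgroup (QG N)} (h : Ch n Z W) : Ch n (copre N Z) (copre N W) :=
  h.mono (f := BG.copre N) (fun _ _ => copre_mono) fun _ _ _ e _ e' => e.ne (copre_inj e')

theorem of_quo (hN : Nml N X) (h : Ch n ⊥ (quo X N)) : Ch n N X := by
  have := h.copre
  rwa [copre_bot, copre_quo_of_le hN.1 hN.2] at this

theorem strictAnti (h : Ch n X Y) : ∃ c : Fin (n + 1) → Subgroup G, StrictAnti c ∧ c 0 = Y := by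
  induction n generalizing Y with
  | zero => exact ⟨fun _ => Y, Subsingleton.strictAnti (α := Fin 1) _, rfl⟩
  | succ n ih =>
    obtain ⟨M, h1, h2⟩ := h
    obtain ⟨c, hc, e⟩ := ih h2
    refine ⟨Fin.cons Y c, Fin.strictAnti_iff_succ_lt.2 fun i => ?_, rfl⟩
    refine Fin.cases ?_ (fun j => ?_) i
    · simpa [e] using h1
    · simpa using hc (Fin.castSucc_lt_succ (i := j))

end Ch

variable [Finite G] {n : ℕ} {N X Y : Subgroup G}

theorem ch_pow {p k : ℕ} [Fact p.Prime] (hX : Nat.card X = p ^ k) (h : X ≤ Y)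
    (hd : p ^ (k + n) ∣ Nat.card Y) : Ch n X Y := by
  induction n generalizing X k with
  | zero => exact h
  | succ n ih =>
    obtain ⟨K, h1, h2⟩ := Sylow.exists_subgroup_card_pow_succ (G := Y) (p := p) (n := k)
      ((pow_dvd_pow _ (by omega)).trans hd) (H := X.subgroupOf Y) (by rw [subOf_card h, hX])
    have e : Nat.card (K.map Y.subtype) = p ^ (k + 1) := by
      rw [card_map_of_injective Y.subtype_injective, h1]
    have hle : X ≤ K.map Y.subtype := by rw [← subOf_map h]; exact map_mono h2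
    have hlt : X < K.map Y.subtype := hle.lt_of_ne fun e' => by
      rw [← e', hX] at e
      exact absurd (Nat.pow_right_injective (Fact.out : p.Prime).two_le e) (by omega)
    have := (Ch.one hlt).trans (ih e (map_subtype_le _) (by rwa [add_right_comm, add_assoc]))
    rwa [add_comm] at this

theorem ch_bot {p : ℕ} [Fact p.Prime] (hd : p ^ n ∣ Nat.card Y) : Ch n ⊥ Y :=
  ch_pow (p := p) (k := 0) (by simp) bot_le (by simpa using hd)

theorem ch_rel {p : ℕ} [Fact p.Prime] (hN : Nml N X) (hd : p ^ n ∣ N.relIndex X) : Ch n N X :=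
  .of_quo hN (ch_bot (by rwa [card_quo hN.2]))

theorem ch_index (hs : Group.IsSolvable G) (N : Subgroup G) [N.Normal] : Ch (Ω N.index) N ⊤ := by
  induction h : N.index using Nat.strong_induction_on generalizing N with
  | _ k ih =>
    by_cases hN : N = ⊤
    · subst hN
      rw [index_top] at h; subst h
      simpa using Ch.zero le_rfl
    obtain ⟨p, M, hp, hM, h1, -, -, -, j, hj⟩ := Hall.exists_normal_pgroup_mod (K := ⊤) (N := N)
      inferInstance
      (fun e => hN (top_le_iff.1 e))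
    have := Fact.mk hp
    have e := relIndex_mul_index h1.le
    have hj1 : N.relIndex M ≠ 1 := fun e' => h1.not_ge (relIndex_eq_one.1 e')
    have h0 : M.index ≠ 0 := index_ne_zero_of_finite
    have h0' : N.relIndex M ≠ 0 := by rw [hj]; exact pow_ne_zero _ hp.ne_zero
    have hlt : M.index < k := by
      rw [← h, ← e]; exact lt_mul_of_one_lt_left (Nat.pos_of_ne_zero h0) (by omega)
    have := (ch_rel (n := j) (p := p) ⟨h1.le, le_normalizer_of_normal⟩ (by rw [hj])).trans
      (ih _ hlt M rfl)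
    rwa [← h, ← e, ArithmeticFunction.cardFactors_mul h0' h0, hj,
      ArithmeticFunction.cardFactors_apply_prime_pow hp]

theorem om_le {a b : ℕ} (hb : b ≠ 0) (h : a ∣ b) : Ω a ≤ Ω b := by
  obtain ⟨c, rfl⟩ := h
  rw [ArithmeticFunction.cardFactors_mul (left_ne_zero_of_mul hb) (right_ne_zero_of_mul hb)]
  omega

theorem ch_sol (hs : Group.IsSolvable X) {a : ℕ} (h : a ∣ Nat.card X) : Ch (Ω a) ⊥ X := by
  have := ch_index hs (⊥ : Subgroup X)
  rw [index_bot] at this
  exact this.subtype.of_le (om_le Nat.card_pos.ne' h)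

theorem card_eq_of_not_ch (hs : Group.IsSolvable X) {a : ℕ} (h : a ∣ Nat.card X)
    (hn : ¬ Ch (Ω a + 1) ⊥ X) : Nat.card X = a := by
  obtain ⟨c, hc⟩ := h
  have h0 : a * c ≠ 0 := hc ▸ Nat.card_pos.ne'
  by_contra hne
  have h1 : c ≠ 1 := fun e => hne (by rw [hc, e, mul_one])
  refine hn ((ch_sol hs dvd_rfl).of_le ?_)
  rw [hc, ArithmeticFunction.cardFactors_mul (left_ne_zero_of_mul h0) (right_ne_zero_of_mul h0)]
  have := (ArithmeticFunction.cardFactors_pos_iff_one_lt (n := c)).2
    (by have := right_ne_zero_of_mul h0; omega)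
  omega

theorem ch_four_top (hs : ¬ Group.IsSolvable G) : Ch 4 (⊥ : Subgroup G) ⊤ := by
  obtain ⟨S⟩ : Nonempty (Sylow 2 G) := inferInstance
  have hS : (S : Subgroup G) ≠ ⊤ := fun e => hs <| by
    have := pgroup_sol S.isPGroup'
    rw [e] at this
    exact Group.isSolvable_of_surjective (f := (⊤ : Subgroup G).subtype) fun x => ⟨⟨x, trivial⟩, rfl⟩
  by_cases h8 : 2 ^ 3 ∣ Nat.card (S : Subgroup G)
  · exact (ch_bot h8).step hS.lt_top
  have h4 : 2 ^ 2 ∣ Nat.card (S : Subgroup G) := by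
    by_contra h
    refine hs (NG.solvable_of_not_four fun e => h ?_)
    rw [S.card_eq_multiplicity]
    exact pow_dvd_pow _ ((Nat.prime_two.pow_dvd_iff_le_factorization Nat.card_pos.ne').1 e)
  obtain ⟨k, hk⟩ := IsPGroup.iff_card.1 S.isPGroup'
  rw [hk, Nat.pow_dvd_pow_iff_le_right one_lt_two] at h8 h4
  obtain rfl : k = 2 := by omega
  have hab := IsPGroup.isMulCommutative_of_card_eq_prime_sq hk
  by_cases hm : IsCoatom (S : Subgroup G)
  · have := abelian_nil hab
    exact absurd (Cfsg.Agent.S4039.result _ hm this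
      ((Group.IsNilpotent.nilpotencyClass_le_one_iff.2 hab).trans one_le_two)) hs
  · obtain ⟨M, h1, h2⟩ : ∃ M, (S : Subgroup G) < M ∧ M ≠ ⊤ := by
      by_contra h
      exact hm ⟨hS, fun M e => by_contra fun e' => h ⟨M, e, e'⟩⟩
    exact ((ch_bot (p := 2) (n := 2) (by rw [hk])).step h1).step h2.lt_top

theorem ch_four (hN : Nml N X) (h1 : Group.IsSolvable N) (h2 : ¬ Group.IsSolvable X) :
    Ch 4 N X := by
  refine .of_quo hN (ch_four_top fun e => h2 ?_).subtype
  rw [← copre_quo_of_le hN.1 hN.2]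
  exact sol_copre h1 e

end Cfsg.Lib.Len
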